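import Mathlib.LinearAlgebra.Trace
import Mathlib.LinearAlgebra.FreeModule.Finite.Basic
import Mathlib.LinearAlgebra.Pi
import Mathlib.Algebra.Ring.Int.Parity

namespace SuperTr
variable {R : Type*} [CommRing R] {ι : Type*} [Fintype ι] [DecidableEq ι]
    {M : ι → Type*} [∀ i, AddCommGroup (M i)] [∀ i, Module R (M i)]

theorem id_eq_sum : (LinearMap.id : (Π k, M k) →ₗ[R] (Π k, M k)) = ∑ i, (LinearMap.single R M i) ∘ₗ LinearMap.proj i := by
  refine LinearMap.ext fun v => ?_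
  simp [Finset.univ_sum_single]

variable [∀ i, Module.Free R (M i)] [∀ i, Module.Finite R (M i)]

theorem trace_blocks (T : (Π k, M k) →ₗ[R] (Π k, M k)) :
    LinearMap.trace R _ T = ∑ i, LinearMap.trace R _ (LinearMap.proj i ∘ₗ T ∘ₗ LinearMap.single R M i) := by
  have h : T = ∑ i, (LinearMap.single R M i) ∘ₗ (LinearMap.proj i ∘ₗ T) := by
    refine LinearMap.ext fun v => ?_
    simp [Finset.univ_sum_single]
  conv_lhs => rw [h, map_sum]
  refine Finset.sum_congr rfl fun i _ => ?_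
  rw [LinearMap.trace_comp_comm']
  rfl

omit [∀ i, Module.Free R (M i)] [∀ i, Module.Finite R (M i)] in
theorem proj_grading (s : ι → R) (T : (Π k, M k) →ₗ[R] (Π k, M k)) (i : ι) :
    LinearMap.proj i ∘ₗ ((∑ j, (LinearMap.single R M j) ∘ₗ (s j • (LinearMap.proj j : (Π k, M k) →ₗ[R] M j))) ∘ₗ T) ∘ₗ LinearMap.single R M i = s i • (LinearMap.proj i ∘ₗ T ∘ₗ LinearMap.single R M i) := by
  refine LinearMap.ext fun v => ?_
  simp [Finset.sum_apply, Pi.single_apply]

theorem trace_grading (s : ι → R) (T : (Π k, M k) →ₗ[R] (Π k, M k)) :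
    LinearMap.trace R _ ((∑ j, (LinearMap.single R M j) ∘ₗ (s j • (LinearMap.proj j : (Π k, M k) →ₗ[R] M j))) ∘ₗ T) =
      ∑ i, s i * LinearMap.trace R _ (LinearMap.proj i ∘ₗ T ∘ₗ LinearMap.single R M i) := by
  rw [trace_blocks]
  exact Finset.sum_congr rfl fun i _ => by rw [proj_grading, map_smul, smul_eq_mul]

theorem trace_grading_comp (s : ι → R) (φ ψ : (Π k, M k) →ₗ[R] (Π k, M k)) :
    LinearMap.trace R _ ((∑ j, (LinearMap.single R M j) ∘ₗ (s j • (LinearMap.proj j : (Π k, M k) →ₗ[R] M j))) ∘ₗ (φ ∘ₗ ψ)) =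
      ∑ i, ∑ j, s i * LinearMap.trace R _ ((LinearMap.proj i ∘ₗ φ ∘ₗ LinearMap.single R M j) ∘ₗ (LinearMap.proj j ∘ₗ ψ ∘ₗ LinearMap.single R M i)) := by
  rw [trace_grading]
  refine Finset.sum_congr rfl fun i _ => ?_
  have : LinearMap.proj i ∘ₗ (φ ∘ₗ ψ) ∘ₗ LinearMap.single R M i = ∑ j, (LinearMap.proj i ∘ₗ φ ∘ₗ LinearMap.single R M j) ∘ₗ (LinearMap.proj j ∘ₗ ψ ∘ₗ LinearMap.single R M i) := by
    refine LinearMap.ext fun v => ?_
    simp only [LinearMap.comp_apply, LinearMap.sum_apply, LinearMap.proj_apply, LinearMap.single_apply]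
    rw [← Finset.sum_apply, ← map_sum, Finset.univ_sum_single]
  rw [this, map_sum, Finset.mul_sum]

theorem sgn_add (m n : ℤ) : (-1 : R) ^ (m + n).natAbs = (-1) ^ m.natAbs * (-1) ^ n.natAbs := by
  rw [← pow_add]
  refine neg_one_pow_congr ?_
  rw [Int.natAbs_even, Nat.even_add, Int.natAbs_even, Int.natAbs_even, Int.even_add]

end SuperTr
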